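import Mathlib
import Cfsg.Prelude.Def_TwoFusion

set_option autoImplicit false

namespace Cfsg.Agent.Isolated

variable {G : Type*} [Group G]

lemma conj_pow_mul {z w : G} (hw : z * w * z = w⁻¹) (hz : z * z = 1) (j : ℕ) :
    w ^ j * z = z * (w ^ j)⁻¹ := by
  have hzi : z⁻¹ = z := inv_eq_of_mul_eq_one_right hz
  have h1 : z * w * z⁻¹ = w⁻¹ := by rw [hzi]; exact hw
  have h2 : z * w ^ j * z⁻¹ = (w ^ j)⁻¹ := by rw [← conj_pow, h1, inv_pow]
  calc w ^ j * z = z⁻¹ * (z * w ^ j * z⁻¹) * (z * z) := by group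
    _ = z * (w ^ j)⁻¹ := by rw [h2, hzi, hz, mul_one]

lemma inv_dihedral {z a : G} (hz : z * z = 1) (ha : a * a = 1) : z * (z * a) * z = (z * a)⁻¹ := by
  rw [mul_inv_rev, inv_eq_of_mul_eq_one_right hz, inv_eq_of_mul_eq_one_right ha]
  rw [← mul_assoc z z a, hz, one_mul]

/-- The product of an isolated involution with any of its conjugates has odd order. -/
lemma odd_order [Finite G] {z : G} (hz : Cfsg.IsIsolatedInvolution z) (g : G) :
    Odd (orderOf (z * (g * z * g⁻¹))) := by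
  have hz1 : z * z = 1 := by rw [← pow_two, ← hz.1]; exact pow_orderOf_eq_one z
  set a := g * z * g⁻¹ with ha
  have ha1 : a * a = 1 := by
    calc a * a = g * (z * z) * g⁻¹ := by rw [ha]; group
      _ = 1 := by rw [hz1]; group
  set w := z * a with hw
  have hi : z * w * z = w⁻¹ := inv_dihedral hz1 ha1
  have hzi : z⁻¹ = z := inv_eq_of_mul_eq_one_right hz1
  have hconj : ∀ j : ℕ, w ^ j * z * (w ^ j)⁻¹ = w ^ (2 * j) * z := by
    intro j
    rw [two_mul, pow_add]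
    calc w ^ j * z * (w ^ j)⁻¹ = w ^ j * (z * (w ^ j)⁻¹) := by group
      _ = w ^ j * (w ^ j * z) := by rw [conj_pow_mul hi hz1 j]
      _ = _ := by group
  have hcomm : ∀ j : ℕ, (w ^ j) * (w ^ j) = 1 → Commute z (w ^ j * z) := by
    intro j hj
    have : (w ^ j)⁻¹ = w ^ j := inv_eq_of_mul_eq_one_right hj
    show z * (w ^ j * z) = w ^ j * z * z
    rw [conj_pow_mul hi hz1 j, this, ← mul_assoc, hz1, one_mul]
    conv_rhs => rw [← this, ← conj_pow_mul hi hz1 j]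
    rw [mul_assoc, hz1, mul_one]
  -- every conjugate of z of the form w^i z with (w^i)^2 = 1 is z
  have key : ∀ i : ℕ, (∃ c : G, c * z * c⁻¹ = w ^ i * z) → (w ^ i) * (w ^ i) = 1 → w ^ i = 1 := by
    rintro i ⟨c, hc⟩ hi2
    have h := hz.2 c (by rw [hc]; exact hcomm i hi2)
    rw [hc] at h
    simpa using h
  by_contra hodd
  rw [Nat.not_odd_iff_even] at hodd
  obtain ⟨m, hm⟩ := hodd
  have hpos : 0 < orderOf w := orderOf_pos w
  have hwm : w ^ m * w ^ m = 1 := by rw [← pow_add, ← hm]; exact pow_orderOf_eq_one w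
  have hne : w ^ m ≠ 1 := pow_ne_one_of_lt_orderOf (by omega) (by omega)
  apply hne
  apply key m ?_ hwm
  rcases Nat.even_or_odd m with ⟨j, hj⟩ | ⟨j, hj⟩
  · exact ⟨w ^ j, by rw [hconj j]; congr 2; omega⟩
  · -- a = w⁻¹ z
    refine ⟨w ^ (j + 1) * g, ?_⟩
    have haw : a = w⁻¹ * z := by
      rw [hw, mul_inv_rev, hzi, inv_eq_of_mul_eq_one_right ha1, mul_assoc, hz1, mul_one]
    calc w ^ (j + 1) * g * z * (w ^ (j + 1) * g)⁻¹ = w ^ (j + 1) * (g * z * g⁻¹) * (w ^ (j + 1))⁻¹ := by group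
      _ = w ^ (j + 1) * w⁻¹ * (z * (w ^ (j + 1))⁻¹) := by rw [← ha, haw]; group
      _ = w ^ (j + 1) * w⁻¹ * (w ^ (j + 1) * z) := by rw [conj_pow_mul hi hz1 (j + 1)]
      _ = w ^ j * w ^ (j + 1) * z := by rw [pow_succ]; group
      _ = w ^ m * z := by rw [← pow_add]; congr 2; omega

/-- The square root of `a z` conjugates `z` to `a`. -/
lemma exists_sqrt [Finite G] {z : G} (hz : Cfsg.IsIsolatedInvolution z) (g : G) :
    ∃ j : ℕ, let k := (g * z * g⁻¹ * z) ^ j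
      k * k = g * z * g⁻¹ * z ∧ Odd (orderOf k) ∧ z * k * z⁻¹ = k⁻¹ ∧ k * z * k⁻¹ = g * z * g⁻¹ := by
  have hz1 : z * z = 1 := by rw [← pow_two, ← hz.1]; exact pow_orderOf_eq_one z
  have hzi : z⁻¹ = z := inv_eq_of_mul_eq_one_right hz1
  set a := g * z * g⁻¹ with ha
  have ha1 : a * a = 1 := by
    calc a * a = g * (z * z) * g⁻¹ := by rw [ha]; group
      _ = 1 := by rw [hz1]; group
  have hv : a * z = (z * a)⁻¹ := by
    rw [mul_inv_rev, hzi, inv_eq_of_mul_eq_one_right ha1]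
  have hodd : Odd (orderOf (a * z)) := by rw [hv, orderOf_inv]; exact odd_order hz g
  obtain ⟨n, hn⟩ := hodd
  have hinv : z * (a * z) * z = (a * z)⁻¹ := by
    rw [hv, inv_inv]
    calc z * (z * a)⁻¹ * z = (z⁻¹ * (z * a) * z⁻¹)⁻¹ := by group
      _ = z * a := by rw [hzi, inv_dihedral hz1 ha1, inv_inv]
  refine ⟨n + 1, ?_, ?_, ?_, ?_⟩
  · rw [← pow_add, show n + 1 + (n + 1) = (2 * n + 1) + 1 by ring, pow_succ, ← hn,
      pow_orderOf_eq_one, one_mul]
  · exact Odd.of_dvd_nat ⟨n, hn⟩ (orderOf_pow_dvd _)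
  · rw [← conj_pow, hzi, hinv, inv_pow]
  · have h2 : (a * z) ^ (n + 1) * (a * z) ^ (n + 1) = a * z := by
      rw [← pow_add, show n + 1 + (n + 1) = (2 * n + 1) + 1 by ring, pow_succ, ← hn,
        pow_orderOf_eq_one, one_mul]
    calc (a * z) ^ (n + 1) * z * ((a * z) ^ (n + 1))⁻¹
        = (a * z) ^ (n + 1) * (z * ((a * z) ^ (n + 1))⁻¹) := by group
      _ = (a * z) ^ (n + 1) * (a * z) ^ (n + 1) * z := by rw [← conj_pow_mul hinv hz1]; group
      _ = a := by rw [h2, mul_assoc, hz1, mul_one]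

end Cfsg.Agent.Isolated
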